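import Mathlib

set_option autoImplicit false

open Matrix

namespace Groth.Agent.CycMat

universe u v
variable {K : Type u} {L : Type v} [Field K] [Field L] [Algebra K L]

/-- The matrix with characteristic polynomial `X² - 2cX + 1`. -/
def rot (c : K) : Matrix.SpecialLinearGroup (Fin 2) K :=
  ⟨!![c, c ^ 2 - 1; 1, c], by rw [det_fin_two_of]; ring⟩

lemma eigen {c : K} {ξ : L} (hξ : ξ ≠ 0) (hc : algebraMap K L (2 * c) = ξ + ξ⁻¹) (k : ℕ) :
    Matrix.vecMul ![1, ξ - algebraMap K L c] (((rot c ^ k : Matrix.SpecialLinearGroup (Fin 2) K) : Matrix (Fin 2) (Fin 2) K).map (algebraMap K L)) =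
      ξ ^ k • ![1, ξ - algebraMap K L c] := by
  have h2 : ξ * ξ = 2 * algebraMap K L c * ξ - 1 := by
    rw [map_mul, map_ofNat] at hc; rw [hc, add_mul, inv_mul_cancel₀ hξ]; ring
  have h1 : Matrix.vecMul ![1, ξ - algebraMap K L c] ((rot c : Matrix (Fin 2) (Fin 2) K).map (algebraMap K L)) =
      ξ • ![1, ξ - algebraMap K L c] := by
    ext i
    fin_cases i
    · simp [rot, Matrix.vecMul, dotProduct, Fin.sum_univ_two]
    · simp [rot, Matrix.vecMul, dotProduct, Fin.sum_univ_two]
      linear_combination (-1 : L) * h2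
  induction k with
  | zero => simp
  | succ k ih =>
    rw [show ((rot c ^ (k + 1) : Matrix.SpecialLinearGroup (Fin 2) K) : Matrix (Fin 2) (Fin 2) K) = ((rot c ^ k : Matrix.SpecialLinearGroup (Fin 2) K) : Matrix (Fin 2) (Fin 2) K) * (rot c : Matrix (Fin 2) (Fin 2) K) from
      congrArg Subtype.val (pow_succ (rot c) k), Matrix.map_mul, ← Matrix.vecMul_vecMul, ih,
      Matrix.smul_vecMul, h1, smul_smul, ← pow_succ]

lemma pow_eq_one_of {c : K} {ξ : L} (hξ : ξ ≠ 0) (hc : algebraMap K L (2 * c) = ξ + ξ⁻¹) {k : ℕ}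
    (h : (rot c) ^ k = 1) : ξ ^ k = 1 := by
  have := congrFun (eigen hξ hc k) 0
  rw [h] at this
  simpa using this.symm

lemma eq_scalar {c : K} {ξ : L} (hξ : ξ ≠ 0) (hne : ξ ≠ ξ⁻¹)
    (hc : algebraMap K L (2 * c) = ξ + ξ⁻¹) {k : ℕ} {e : K}
    (he : algebraMap K L e = ξ ^ k) (he' : algebraMap K L e = (ξ ^ k)⁻¹) :
    ((rot c ^ k : Matrix.SpecialLinearGroup (Fin 2) K) : Matrix (Fin 2) (Fin 2) K) = Matrix.scalar (Fin 2) e := by
  have h1 := eigen hξ hc k
  have h2 := eigen (c := c) (ξ := ξ⁻¹) (inv_ne_zero hξ) (by rw [hc, inv_inv, add_comm]) k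
  rw [inv_pow, ← he'] at h2
  rw [← he] at h1
  generalize ((rot c ^ k : Matrix.SpecialLinearGroup (Fin 2) K) : Matrix (Fin 2) (Fin 2) K) = M at h1 h2 ⊢
  have p0 := congrFun h1 0
  have p1 := congrFun h1 1
  have q0 := congrFun h2 0
  have q1 := congrFun h2 1
  simp [Matrix.vecMul, dotProduct, Fin.sum_univ_two] at p0 p1 q0 q1
  have hd : ξ - ξ⁻¹ ≠ 0 := sub_ne_zero.mpr hne
  have hinj := (algebraMap K L).injective
  have a10 : algebraMap K L (M 1 0) = 0 :=
    (mul_eq_zero.mp (by linear_combination p0 - q0 : (ξ - ξ⁻¹) * algebraMap K L (M 1 0) = 0)).resolve_left hd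
  have a11 : algebraMap K L (M 1 1) - algebraMap K L e = 0 :=
    (mul_eq_zero.mp (by linear_combination p1 - q1 :
      (ξ - ξ⁻¹) * (algebraMap K L (M 1 1) - algebraMap K L e) = 0)).resolve_left hd
  have a00 : algebraMap K L (M 0 0) = algebraMap K L e := by
    linear_combination p0 - (ξ - algebraMap K L c) * a10
  have a01 : algebraMap K L (M 0 1) = 0 := by
    linear_combination p1 - (ξ - algebraMap K L c) * a11
  ext i j
  fin_cases i <;> fin_cases j <;> apply hinj <;> simp [a00, a01, a10, sub_eq_zero.mp a11]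

lemma exists_orderOf [CharZero K] (n : ℕ) (hn : 1 ≤ n) (ξ : L) (hξ : IsPrimitiveRoot ξ n) (c : K)
    (hc : algebraMap K L (2 * c) = ξ + ξ⁻¹) :
    ∃ M : Matrix.SpecialLinearGroup (Fin 2) K, orderOf M = n := by
  have hξ0 : ξ ≠ 0 := hξ.ne_zero (by omega)
  rcases Nat.lt_or_ge n 3 with h | h
  · interval_cases n
    · exact ⟨1, orderOf_one⟩
    · refine ⟨-1, orderOf_eq_prime (by simp) fun h => ?_⟩
      have := congrArg (fun M : Matrix.SpecialLinearGroup (Fin 2) K => M.1 0 0) h
      simp at this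
      exact absurd this (by norm_num)
  have hne : ξ ≠ ξ⁻¹ := fun he => by
    have : ξ ^ 2 = 1 := by rw [pow_two]; nth_rewrite 2 [he]; exact mul_inv_cancel₀ hξ0
    have := Nat.le_of_dvd two_pos (hξ.dvd_of_pow_eq_one 2 this)
    omega
  refine ⟨rot c, (orderOf_eq_iff (by omega)).mpr ⟨?_, fun m hm hm0 h' => ?_⟩⟩
  · apply Subtype.ext
    rw [eq_scalar (e := 1) hξ0 hne hc (by simp [hξ.pow_eq_one]) (by simp [hξ.pow_eq_one])]
    simp
  · exact hξ.pow_ne_one_of_pos_of_lt (by omega) hm (pow_eq_one_of hξ0 hc h')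

lemma exists_quaternionGroup_hom [CharZero K] (n : ℕ) (hn : 2 ≤ n) (ξ : L)
    (hξ : IsPrimitiveRoot ξ (2 * n)) (c : K)
    (hc : algebraMap K L (2 * c) = ξ + ξ⁻¹) (x y : K) (hxy : x ^ 2 - (c ^ 2 - 1) * y ^ 2 = -1) :
    ∃ f : QuaternionGroup n →* Matrix.SpecialLinearGroup (Fin 2) K, Function.Injective f := by
  have hξ0 : ξ ≠ 0 := hξ.ne_zero (by omega)
  have hne : ξ ≠ ξ⁻¹ := fun he => by
    have : ξ ^ 2 = 1 := by rw [pow_two]; nth_rewrite 2 [he]; exact mul_inv_cancel₀ hξ0
    have := Nat.le_of_dvd two_pos (hξ.dvd_of_pow_eq_one 2 this)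
    omega
  have hn1 : ξ ^ n = -1 := by
    have h2 : (ξ ^ n) ^ 2 = 1 := by rw [← pow_mul, mul_comm, hξ.pow_eq_one]
    rcases sq_eq_one_iff.mp h2 with h | h
    · exact absurd h (hξ.pow_ne_one_of_pos_of_lt (by omega) (by omega))
    · exact h
  let A := rot c
  let B : Matrix.SpecialLinearGroup (Fin 2) K :=
    ⟨!![x, -y * (c ^ 2 - 1); y, -x], by rw [det_fin_two_of]; linear_combination -hxy⟩
  have hAn : A ^ n = B * B := by
    apply Subtype.ext
    rw [eq_scalar (e := -1) hξ0 hne hc (by simp [hn1]) (by simp [hn1])]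
    ext i j
    fin_cases i <;> fin_cases j <;> simp [B, Fin.sum_univ_two, Matrix.mul_apply] <;>
      first | linear_combination -hxy | ring
  have hBA : A⁻¹ * B = B * A := by
    apply Subtype.ext
    change A.1.adjugate * B.1 = B.1 * A.1
    ext i j
    fin_cases i <;> fin_cases j <;>
      simp [A, B, rot, adjugate_fin_two, Fin.sum_univ_two, Matrix.mul_apply] <;> ring
  have hA2n : A ^ (2 * n) = 1 := by
    apply Subtype.ext
    rw [eq_scalar (e := 1) hξ0 hne hc (by simp [hξ.pow_eq_one]) (by simp [hξ.pow_eq_one])]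
    simp
  let φ : ZMod (2 * n) →+ Additive (Matrix.SpecialLinearGroup (Fin 2) K) :=
    ZMod.lift (2 * n) ⟨zmultiplesHom _ (Additive.ofMul A), by
      rw [zmultiplesHom_apply, natCast_zsmul, ← ofMul_pow, hA2n, ofMul_one]⟩
  let P : ZMod (2 * n) → Matrix.SpecialLinearGroup (Fin 2) K := fun i => Additive.toMul (φ i)
  have hPadd : ∀ i j, P (i + j) = P i * P j := fun i j => congrArg Additive.toMul (map_add φ i j)
  have hP0 : P 0 = 1 := congrArg Additive.toMul (map_zero φ)
  have hPint : ∀ k : ℤ, P (k : ZMod (2 * n)) = A ^ k := fun k => by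
    simp [P, φ, ZMod.lift_coe, ← ofMul_zpow]
  have hsurj : ∀ i : ZMod (2 * n), ∃ k : ℤ, (k : ZMod (2 * n)) = i := ZMod.intCast_surjective
  have hswap : ∀ i, P i * B = B * P (-i) := fun i => by
    obtain ⟨k, rfl⟩ := hsurj i
    rw [← Int.cast_neg, hPint, hPint]
    have hs : SemiconjBy B A A⁻¹ := hBA.symm
    have := (hs.zpow_right (-k)).eq
    rw [_root_.inv_zpow, ← _root_.zpow_neg, neg_neg] at this
    exact this.symm
  have hPn : P n = B * B := by
    rw [← hAn, ← zpow_natCast A n, ← hPint, Int.cast_natCast]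
  let f : QuaternionGroup n →* Matrix.SpecialLinearGroup (Fin 2) K :=
    { toFun := fun q => match q with
        | .a i => P i
        | .xa i => B * P i
      map_one' := hP0
      map_mul' := by
        rintro (i | i) (j | j)
        · exact hPadd i j
        · show B * P (j - i) = P i * (B * P j)
          rw [← mul_assoc, hswap, mul_assoc, ← hPadd, sub_eq_neg_add]
        · show B * P (i + j) = B * P i * P j
          rw [hPadd, mul_assoc]
        · show P ((n : ZMod (2 * n)) + j - i) = B * P i * (B * P j)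
          rw [mul_assoc B, ← mul_assoc (P i), hswap, mul_assoc B (P (-i)), ← mul_assoc B B, ← hPn, ← hPadd,
            ← hPadd]
          congr 1; ring }
  refine ⟨f, (injective_iff_map_eq_one f).mpr ?_⟩
  have hker : ∀ i, P i = 1 → i = 0 := fun i hi => by
    have : NeZero (2 * n) := ⟨by omega⟩
    rw [← ZMod.natCast_zmod_val i, ← Int.cast_natCast, hPint, zpow_natCast] at hi
    have := pow_eq_one_of hξ0 hc hi
    have hd := hξ.dvd_of_pow_eq_one _ this
    rw [← ZMod.natCast_zmod_val i, (ZMod.natCast_eq_zero_iff _ _).mpr hd]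
  rintro (i | i) h
  · exact congrArg QuaternionGroup.a (hker i h)
  · exfalso
    have hB : B = P (-i) := by
      have h' : B * P i = 1 := h
      rw [eq_inv_of_mul_eq_one_left h', eq_comm, eq_inv_iff_mul_eq_one, ← hPadd, neg_add_cancel, hP0]
    have hA1 : P 1 = A := by simpa using hPint 1
    have hc2 := hswap 1
    rw [hB, ← hPadd, ← hPadd] at hc2
    have e2 : P (1 + -i) = P (-i + -1) := hc2
    have := hker 2 (by
      have h3 := congrArg (· * P (i + 1)) e2
      simp only [← hPadd] at h3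
      ring_nf at h3
      rw [h3, hP0])
    have h4 : ((2 : ℕ) : ZMod (2 * n)) = 0 := by exact_mod_cast this
    have := Nat.le_of_dvd two_pos ((ZMod.natCast_eq_zero_iff _ _).mp h4)
    omega

end Groth.Agent.CycMat
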